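import Groth.Agent.LubinTateLib.Recursion
import Mathlib.RingTheory.FormalGroup.Basic
import Mathlib.RingTheory.MvPowerSeries.Expand
import Mathlib.RingTheory.DiscreteValuationRing.Basic
import Mathlib.FieldTheory.Finite.Basic
import Mathlib.RingTheory.LocalRing.ResidueField.Basic

/-!
# The Lubin–Tate lemma for `f = πT + T^q`
-/

set_option autoImplicit false

namespace Groth.Agent.LubinTateLib

open MvPowerSeries Finsupp

section Residue

variable {O : Type*} [CommRing O] [IsDomain O] [IsDiscreteValuationRing O]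
  [Finite (IsLocalRing.ResidueField O)]

theorem two_le_card : 2 ≤ Nat.card (IsLocalRing.ResidueField O) := Finite.one_lt_card

theorem isUnit_one_sub_pow {π : O} (hπ : Irreducible π) {m : ℕ} (hm : m ≠ 0) : IsUnit (1 - π ^ m) := by
  refine IsLocalRing.isUnit_one_sub_self_of_mem_nonunits _ ?_
  rw [mem_nonunits_iff]
  exact fun h => hπ.not_isUnit ((isUnit_pow_iff hm).1 h)

theorem residue_eq_zero {π : O} (hπ : Irreducible π) : IsLocalRing.residue O π = 0 := by
  rw [IsLocalRing.residue_eq_zero_iff, IsLocalRing.mem_maximalIdeal, mem_nonunits_iff]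
  exact hπ.not_isUnit

theorem dvd_of_residue_eq_zero {π : O} (hπ : Irreducible π) {a : O}
    (h : IsLocalRing.residue O a = 0) : π ∣ a := by
  rw [IsLocalRing.residue_eq_zero_iff, hπ.maximalIdeal_eq, Ideal.mem_span_singleton] at h
  exact h

/-- In a finite field with `q` elements, `G ^ q = G(X ^ q)`. -/
theorem pow_card_eq_subst {σ k : Type*} [Field k] [Finite k] [Finite σ] (G : MvPowerSeries σ k) :
    G ^ Nat.card k = subst (fun i => (X i : MvPowerSeries σ k) ^ Nat.card k) G := by
  letI : Fintype k := Fintype.ofFinite k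
  obtain ⟨n, hp, hn⟩ := FiniteField.card k (ringChar k)
  haveI : Fact (ringChar k).Prime := ⟨hp⟩
  rw [Nat.card_eq_fintype_card, hn, ← map_iterateFrobenius_expand (ringChar k) hp.ne_zero G n]
  have hid : iterateFrobenius k (ringChar k) n = RingHom.id k := by
    refine RingHom.ext fun a => ?_
    rw [iterateFrobenius_def, ← hn, FiniteField.pow_card, RingHom.id_apply]
  rw [hid, MvPowerSeries.map_id, RingHom.id_apply, MvPowerSeries.expand, coe_substAlgHom]

theorem dvd_coeff {σ : Type*} [Finite σ] {π : O} (hπ : Irreducible π) (B : MvPowerSeries σ O)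
    (e : σ →₀ ℕ) :
    π ∣ coeff e (B ^ Nat.card (IsLocalRing.ResidueField O) -
      subst (fX π (Nat.card (IsLocalRing.ResidueField O))) B) := by
  refine dvd_of_residue_eq_zero hπ ?_
  rw [← MvPowerSeries.coeff_map, map_sub, map_pow, map_subst (hasSubst_fX (Nat.card_pos.ne')),
    pow_card_eq_subst, map_sub, sub_eq_zero]
  congr 2
  funext i
  rw [fX, map_add, map_pow, map_X, smul_eq_C_mul, map_mul, map_C, residue_eq_zero hπ, map_zero,
    zero_mul, zero_add]

end Residue

variable {O : Type*} [CommRing O] {σ τ : Type*}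

/-- `f ∘ G = G ∘ f` for `f = πT + T^q`. -/
def IsLT (π : O) (q : ℕ) (G : MvPowerSeries σ O) : Prop :=
  π • G + G ^ q = subst (fX π q) G

theorem isLT_X [Finite σ] {π : O} {q : ℕ} (hq : q ≠ 0) (i : σ) : IsLT π q (X i : MvPowerSeries σ O) := by
  rw [IsLT, subst_X (hasSubst_fX hq)]
  rfl

theorem IsLT.subst [Finite σ] [Finite τ] {π : O} {q : ℕ} (hq : q ≠ 0) {G : MvPowerSeries σ O} (hG : IsLT π q G)
    {H : σ → MvPowerSeries τ O} (hH0 : ∀ i, constantCoeff (H i) = 0) (hH : ∀ i, IsLT π q (H i)) :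
    IsLT π q (MvPowerSeries.subst H G) := by
  have hs := hasSubst_of_constantCoeff_zero hH0
  show π • MvPowerSeries.subst H G + MvPowerSeries.subst H G ^ q = _
  rw [← subst_smul hs, ← subst_pow hs, ← subst_add hs, hG,
    subst_comp_subst_apply (hasSubst_fX hq) hs, subst_comp_subst_apply hs (hasSubst_fX hq)]
  refine congrArg (MvPowerSeries.subst · G) (funext fun i => ?_)
  rw [← hH i, fX, subst_add hs, subst_smul hs, subst_pow hs, subst_X hs]

/-- The defect `f ∘ G - G ∘ f`. -/
noncomputable def Φ (π : O) (q : ℕ) (G : MvPowerSeries σ O) : MvPowerSeries σ O :=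
  π • G + G ^ q - subst (fX π q) G

theorem isTriangular_Φ [Finite σ] {π : O} {q : ℕ} (hq : 2 ≤ q) :
    IsTriangular (Φ π q : MvPowerSeries σ O → _) (fun d => π - π ^ d) := by
  intro B D d hd hB hD e he
  have hD0 : constantCoeff D = 0 := by
    rw [← coeff_zero_eq_constantCoeff_apply]; exact hD 0 (by rw [map_zero]; omega)
  simp only [Φ, smul_add, map_add, map_sub, map_smul, smul_eq_mul,
    subst_add (hasSubst_fX (show q ≠ 0 by omega)), coeff_pow_add hq hD hB hD0 he.le,
    coeff_subst_fX hq hD he.le, he]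
  ring

variable [IsDomain O] [IsDiscreteValuationRing O] [Finite (IsLocalRing.ResidueField O)]

local notation "q₀" => Nat.card (IsLocalRing.ResidueField O)

theorem eq_of_isLT [Finite σ] {π : O} (hπ : Irreducible π) {G G' : MvPowerSeries σ O}
    (h0 : constantCoeff G = 0) (h0' : constantCoeff G' = 0)
    (h1 : ∀ i, coeff (single i 1) G = coeff (single i 1) G')
    (hG : IsLT π q₀ G) (hG' : IsLT π q₀ G') : G = G' := by
  refine eq_of_isTriangular (isTriangular_Φ (π := π) (two_le_card (O := O))) (fun d hd x hx => ?_)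
    h0 h0' h1 (sub_eq_zero.2 hG) (sub_eq_zero.2 hG')
  have h : π * ((1 - π ^ (d - 1)) * x) = 0 := by
    rw [← hx]
    show π * ((1 - π ^ (d - 1)) * x) = (π - π ^ d) * x
    rw [← mul_assoc, mul_sub, mul_one, ← pow_succ', Nat.sub_add_cancel (by omega)]
  exact (isUnit_one_sub_pow hπ (by omega)).mul_right_eq_zero.1 ((mul_eq_zero.1 h).resolve_left hπ.ne_zero)

theorem exists_isLT [Finite σ] {π : O} (hπ : Irreducible π) (α : σ → O) :
    ∃ G : MvPowerSeries σ O, constantCoeff G = 0 ∧ (∀ i, coeff (single i 1) G = α i) ∧ IsLT π q₀ G := by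
  suffices h01 : ∀ B : MvPowerSeries σ O, constantCoeff B = 0 → ∀ e : σ →₀ ℕ, e.degree ≤ 1 →
      coeff e (Φ π q₀ B) = 0 by
    suffices hsolve : ∀ B : MvPowerSeries σ O, constantCoeff B = 0 → ∀ e : σ →₀ ℕ, 2 ≤ e.degree →
        ∃ x : O, coeff e (Φ π q₀ B) + (π - π ^ e.degree) * x = 0 by
      obtain ⟨G, h0, h1, hG⟩ := exists_of_isTriangular (isTriangular_Φ (π := π) (two_le_card (O := O)))
        h01 hsolve α
      exact ⟨G, h0, h1, sub_eq_zero.1 hG⟩
    intro B hB e he
    obtain ⟨c, hc⟩ := dvd_coeff hπ B e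
    obtain ⟨v, hv⟩ := (isUnit_one_sub_pow hπ (show e.degree - 1 ≠ 0 by omega)).exists_right_inv
    refine ⟨-(v * (coeff e B + c)), ?_⟩
    have h2 : π - π ^ e.degree = π * (1 - π ^ (e.degree - 1)) := by
      rw [mul_sub, mul_one, ← pow_succ', Nat.sub_add_cancel (by omega)]
    rw [map_sub] at hc
    rw [Φ, add_sub_assoc, map_add, map_smul, map_sub, hc, smul_eq_mul]
    linear_combination (-(v * (coeff e B + c))) * h2 - (π * (coeff e B + c)) * hv
  intro B hB e he
  have hv : VanishBelow 1 B := fun n hn => by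
    rw [(degree_eq_zero_iff _).1 (by omega : n.degree = 0), coeff_zero_eq_constantCoeff_apply, hB]
  have hpow := coeff_pow_add (B := 0) (two_le_card (O := O)) hv (map_zero _) hB he
  rw [zero_add, zero_pow Nat.card_pos.ne', map_zero] at hpow
  rw [Φ, map_sub, map_add, map_smul, hpow, coeff_subst_fX (two_le_card (O := O)) hv he, smul_eq_mul,
    add_zero]
  rcases Nat.le_one_iff_eq_zero_or_eq_one.1 he with h | h
  · rw [h, (degree_eq_zero_iff _).1 h, coeff_zero_eq_constantCoeff_apply, hB, mul_zero, mul_zero, sub_zero]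
  · rw [h, pow_one, sub_self]

omit [IsDomain O] [IsDiscreteValuationRing O] [Finite (IsLocalRing.ResidueField O)] in
theorem subst_powerSeries_eq [Finite σ] (π : O) (q : ℕ) {f : PowerSeries O}
    (hf : f = π • PowerSeries.X + PowerSeries.X ^ q) {G : MvPowerSeries σ O} (h0 : constantCoeff G = 0) :
    PowerSeries.subst G f = π • G + G ^ q := by
  have h : PowerSeries.HasSubst G := PowerSeries.HasSubst.of_constantCoeff_zero h0
  rw [hf, PowerSeries.subst_add h, PowerSeries.subst_smul h, PowerSeries.subst_pow h, PowerSeries.subst_X h]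

omit [IsDomain O] [IsDiscreteValuationRing O] [Finite (IsLocalRing.ResidueField O)] in
theorem subst_X_eq_fX [Finite σ] (π : O) (q : ℕ) {f : PowerSeries O}
    (hf : f = π • PowerSeries.X + PowerSeries.X ^ q) :
    (fun i : σ => PowerSeries.subst (X i : MvPowerSeries σ O) f) = fX π q :=
  funext fun i => by rw [subst_powerSeries_eq π q hf (constantCoeff_X i)]; rfl

omit [IsDomain O] [IsDiscreteValuationRing O] [Finite (IsLocalRing.ResidueField O)] in
/-- The functional equation in two or more variables. -/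
theorem isLT_iff [Finite σ] {π : O} {q : ℕ} {f : PowerSeries O}
    (hf : f = π • PowerSeries.X + PowerSeries.X ^ q) {G : MvPowerSeries σ O} (h0 : constantCoeff G = 0) :
    IsLT π q G ↔ PowerSeries.subst G f =
      MvPowerSeries.subst (fun i : σ => PowerSeries.subst (X i : MvPowerSeries σ O) f) G := by
  rw [subst_powerSeries_eq π q hf h0, subst_X_eq_fX π q hf]
  rfl

omit [IsDomain O] [IsDiscreteValuationRing O] [Finite (IsLocalRing.ResidueField O)] in
/-- The functional equation in one variable. -/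
theorem isLT_iff_powerSeries {π : O} {q : ℕ} {f : PowerSeries O}
    (hf : f = π • PowerSeries.X + PowerSeries.X ^ q) {g : PowerSeries O} (h0 : g.constantCoeff = 0) :
    IsLT π q g ↔ PowerSeries.subst g f = PowerSeries.subst f g := by
  have h1 : (fX π q : Unit → MvPowerSeries Unit O) = fun _ => f := by
    funext i; rw [hf]; rfl
  have h2 : PowerSeries.subst g f = π • g + g ^ q := subst_powerSeries_eq π q hf h0
  rw [h2, PowerSeries.subst_def, IsLT, h1]



section Log

variable {K : Type*} [CommRing K] [IsDomain K]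

omit [IsDomain K] in
theorem isTriangular_linear [Finite σ] {ϖ : K} {q : ℕ} (hq : 2 ≤ q) :
    IsTriangular (fun G : MvPowerSeries σ K => ϖ • G - subst (fX ϖ q) G) (fun d => ϖ - ϖ ^ d) := by
  intro B D d hd hB hD e he
  simp only [smul_add, map_add, map_sub, map_smul, smul_eq_mul,
    subst_add (hasSubst_fX (show q ≠ 0 by omega)), coeff_subst_fX hq hD he.le, he]
  ring

/-- A series commuting with multiplication by `ϖ` along `f` is determined by its linear part. -/
theorem eq_of_subst_eq [Finite σ] {ϖ : K} {q : ℕ} (hq : 2 ≤ q) (hϖ : ∀ d, 2 ≤ d → ϖ - ϖ ^ d ≠ 0)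
    {G G' : MvPowerSeries σ K} (h0 : constantCoeff G = 0) (h0' : constantCoeff G' = 0)
    (h1 : ∀ i, coeff (single i 1) G = coeff (single i 1) G')
    (hG : subst (fX ϖ q) G = ϖ • G) (hG' : subst (fX ϖ q) G' = ϖ • G') : G = G' :=
  eq_of_isTriangular (isTriangular_linear (ϖ := ϖ) hq)
    (fun d hd _ hx => (mul_eq_zero.1 hx).resolve_left (hϖ d hd)) h0 h0' h1
    (sub_eq_zero.2 hG.symm) (sub_eq_zero.2 hG'.symm)

omit [IsDomain K] in
theorem exists_subst_eq [Finite σ] {ϖ : K} {q : ℕ} (hq : 2 ≤ q) (hϖ : ∀ d, 2 ≤ d → IsUnit (ϖ - ϖ ^ d))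
    (α : σ → K) : ∃ G : MvPowerSeries σ K, constantCoeff G = 0 ∧ (∀ i, coeff (single i 1) G = α i) ∧
      subst (fX ϖ q) G = ϖ • G := by
  suffices h01 : ∀ B : MvPowerSeries σ K, constantCoeff B = 0 → ∀ e : σ →₀ ℕ, e.degree ≤ 1 →
      coeff e (ϖ • B - subst (fX ϖ q) B) = 0 by
    obtain ⟨G, h0, h1, hG⟩ := exists_of_isTriangular (isTriangular_linear (ϖ := ϖ) hq) h01
      (fun B _ e he => by
        obtain ⟨v, hv⟩ := (hϖ e.degree he).exists_right_inv
        exact ⟨-(v * coeff e (ϖ • B - subst (fX ϖ q) B)),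
          by linear_combination (-(coeff e (ϖ • B - subst (fX ϖ q) B))) * hv⟩) α
    exact ⟨G, h0, h1, (sub_eq_zero.1 hG).symm⟩
  intro B hB e he
  have hv : VanishBelow 1 B := fun n hn => by
    rw [(degree_eq_zero_iff _).1 (by omega : n.degree = 0), coeff_zero_eq_constantCoeff_apply, hB]
  rw [map_sub, map_smul, coeff_subst_fX hq hv he, smul_eq_mul]
  rcases Nat.le_one_iff_eq_zero_or_eq_one.1 he with h | h
  · rw [h, (degree_eq_zero_iff _).1 h, coeff_zero_eq_constantCoeff_apply, hB, mul_zero, mul_zero, sub_zero]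
  · rw [h, pow_one, sub_self]

end Log

end Groth.Agent.LubinTateLib
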