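import Mathlib.RingTheory.MvPowerSeries.Substitution
import Mathlib.RingTheory.PowerSeries.Substitution
import Mathlib.Algebra.Ring.GeomSum

/-!
# Solving equations between power series degree by degree

Tools for the Lubin–Tate lemma: the effect of a perturbation in degrees `≥ d` on `G ↦ G ^ q` and on
`G ↦ G(f(X))`, and existence and uniqueness of solutions by recursion on the degree.
-/

set_option autoImplicit false

namespace Groth.Agent.LubinTateLib

open MvPowerSeries Finsupp

variable {σ τ A : Type*} [CommRing A]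

/-- `D` has no terms of degree `< d`. -/
def VanishBelow (d : ℕ) (D : MvPowerSeries σ A) : Prop := ∀ n : σ →₀ ℕ, n.degree < d → coeff n D = 0

theorem coeff_mul_eq_zero {D S : MvPowerSeries σ A} {d : ℕ} (hD : VanishBelow d D)
    (hS : constantCoeff S = 0) {e : σ →₀ ℕ} (he : e.degree ≤ d) : coeff e (D * S) = 0 := by
  classical
  rw [MvPowerSeries.coeff_mul]
  refine Finset.sum_eq_zero fun x hx => ?_
  rw [Finset.mem_antidiagonal] at hx
  by_cases h : x.1.degree < d
  · rw [hD _ h, zero_mul]
  · have h2 : x.2.degree = 0 := by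
      have := congrArg Finsupp.degree hx
      rw [map_add] at this
      omega
    rw [(degree_eq_zero_iff _).1 h2, coeff_zero_eq_constantCoeff_apply, hS, mul_zero]

theorem coeff_pow_add {B D : MvPowerSeries σ A} {d q : ℕ} (hq : 2 ≤ q) (hD : VanishBelow d D)
    (hB : constantCoeff B = 0) (hD0 : constantCoeff D = 0) {e : σ →₀ ℕ} (he : e.degree ≤ d) :
    coeff e ((B + D) ^ q) = coeff e (B ^ q) := by
  rw [← sub_eq_zero, ← map_sub, ← geom_sum₂_mul, mul_comm, add_sub_cancel_left]
  refine coeff_mul_eq_zero hD ?_ he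
  rw [map_sum]
  refine Finset.sum_eq_zero fun i _ => ?_
  rw [map_mul, map_pow, map_pow, map_add, hB, hD0, add_zero]
  rcases Nat.eq_zero_or_pos i with rfl | hi
  · rw [zero_pow (by omega : q - 1 - 0 ≠ 0), mul_zero]
  · rw [zero_pow hi.ne', zero_mul]

/-- The family `X_i ↦ π X_i + X_i ^ q`. -/
noncomputable def fX (π : A) (q : ℕ) (i : σ) : MvPowerSeries σ A := π • X i + X i ^ q

theorem constantCoeff_fX {π : A} {q : ℕ} (hq : q ≠ 0) (i : σ) : constantCoeff (fX π q i) = 0 := by
  simp [fX, zero_pow hq]

theorem hasSubst_fX [Finite σ] {π : A} {q : ℕ} (hq : q ≠ 0) : HasSubst (fX π q : σ → MvPowerSeries σ A) :=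
  hasSubst_of_constantCoeff_zero (constantCoeff_fX hq)

theorem fX_eq (π : A) {q : ℕ} (hq : q ≠ 0) (i : σ) : fX π q i = X i * (C π + X i ^ (q - 1)) := by
  rw [fX, mul_add, smul_eq_C_mul, ← pow_succ', Nat.sub_add_cancel (Nat.pos_of_ne_zero hq), mul_comm]

theorem prod_single_pow {R : Type*} [CommMonoid R] (f : σ → R) (a : σ) (k : ℕ) :
    ((single a k).prod fun s e => f s ^ e) = f a ^ k :=
  Finsupp.prod_single_index (pow_zero _)

theorem prod_fX_pow (π : A) {q : ℕ} (hq : q ≠ 0) (n : σ →₀ ℕ) :
    (n.prod fun s k => fX π q s ^ k) =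
      monomial n (1 : A) * n.prod fun s k => (C π + X s ^ (q - 1) : MvPowerSeries σ A) ^ k := by
  classical
  induction n using Finsupp.induction with
  | zero => simp [monomial_zero_one]
  | single_add a k n ha hk ih =>
    rw [Finsupp.prod_add_index' (fun _ => pow_zero _) (fun _ _ _ => pow_add _ _ _),
      Finsupp.prod_add_index' (fun _ => pow_zero _) (fun _ _ _ => pow_add _ _ _),
      prod_single_pow, prod_single_pow, ih, fX_eq π hq,
      mul_pow, X_pow_eq, ← one_mul (1 : A), ← monomial_mul_monomial, one_mul]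
    ring

theorem constantCoeff_prod_pow (π : A) {q : ℕ} (hq : 2 ≤ q) (n : σ →₀ ℕ) :
    constantCoeff (n.prod fun s k => (C π + X s ^ (q - 1) : MvPowerSeries σ A) ^ k) = π ^ n.degree := by
  rw [map_finsuppProd, Finsupp.degree_apply, ← Finset.prod_pow_eq_pow_sum]
  refine Finset.prod_congr rfl fun s _ => ?_
  simp [zero_pow (by omega : q - 1 ≠ 0)]

theorem coeff_subst_fX [Finite σ] {π : A} {q : ℕ} (hq : 2 ≤ q) {D : MvPowerSeries σ A} {d : ℕ}
    (hD : VanishBelow d D) {e : σ →₀ ℕ} (he : e.degree ≤ d) :
    coeff e (subst (fX π q) D) = π ^ e.degree * coeff e D := by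
  classical
  rw [coeff_subst (hasSubst_fX (by omega))]
  rw [finsum_eq_single _ e]
  · rw [prod_fX_pow π (by omega), coeff_monomial_mul, if_pos le_rfl, tsub_self, one_mul,
      coeff_zero_eq_constantCoeff_apply, constantCoeff_prod_pow π hq, smul_eq_mul, mul_comm]
  · intro n hn
    by_cases h : n.degree < d
    · rw [hD n h, zero_smul]
    · rw [prod_fX_pow π (by omega), coeff_monomial_mul, if_neg, smul_zero]
      intro hle
      apply hn
      have h2 := congrArg Finsupp.degree (add_tsub_cancel_of_le hle)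
      rw [map_add] at h2
      have h3 : (e - n).degree = 0 := by omega
      rw [degree_eq_zero_iff] at h3
      rw [← add_tsub_cancel_of_le hle, h3, add_zero]

theorem degree_eq_one {n : σ →₀ ℕ} (h : n.degree = 1) : ∃ i, n = single i 1 := by
  classical
  obtain ⟨i, hi⟩ : ∃ i, n i ≠ 0 := by
    by_contra! hc
    have : n = 0 := Finsupp.ext hc
    rw [this] at h
    simp at h
  refine ⟨i, ?_⟩
  have hle : single i 1 ≤ n := Finsupp.single_le_iff.2 (Nat.one_le_iff_ne_zero.2 hi)
  have h2 := congrArg Finsupp.degree (add_tsub_cancel_of_le hle)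
  rw [map_add, degree_single, h] at h2
  have h3 : (n - single i 1).degree = 0 := by omega
  rw [degree_eq_zero_iff] at h3
  rw [← add_tsub_cancel_of_le hle, h3, add_zero]

/-- An operator whose value in degree `d` moves by `κ d • D` under perturbations in degrees `≥ d`. -/
def IsTriangular (Φ : MvPowerSeries σ A → MvPowerSeries σ A) (κ : ℕ → A) : Prop :=
  ∀ (B D : MvPowerSeries σ A) (d : ℕ), 1 ≤ d → constantCoeff B = 0 → VanishBelow d D →
    ∀ e : σ →₀ ℕ, e.degree = d → coeff e (Φ (B + D)) = coeff e (Φ B) + κ d * coeff e D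

theorem eq_of_isTriangular {Φ : MvPowerSeries σ A → MvPowerSeries σ A} {κ : ℕ → A}
    (hΦ : IsTriangular Φ κ) (hκ : ∀ d, 2 ≤ d → ∀ x : A, κ d * x = 0 → x = 0)
    {G G' : MvPowerSeries σ A} (h0 : constantCoeff G = 0) (h0' : constantCoeff G' = 0)
    (h1 : ∀ i, coeff (single i 1) G = coeff (single i 1) G') (hG : Φ G = 0) (hG' : Φ G' = 0) : G = G' := by
  suffices h : ∀ d, VanishBelow d (G' - G) by
    refine MvPowerSeries.ext fun n => ?_
    have := h (n.degree + 1) n (Nat.lt_succ_self _)
    rw [map_sub, sub_eq_zero] at this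
    exact this.symm
  intro d
  induction d with
  | zero => exact fun n hn => absurd hn (Nat.not_lt_zero _)
  | succ d ih =>
    intro n hn
    rcases lt_or_eq_of_le (Nat.le_of_lt_succ hn) with h | h
    · exact ih n h
    · rcases (by omega : d = 0 ∨ d = 1 ∨ 2 ≤ d) with rfl | rfl | hd
      · rw [(degree_eq_zero_iff _).1 h, map_sub, coeff_zero_eq_constantCoeff_apply,
          coeff_zero_eq_constantCoeff_apply, h0, h0', sub_zero]
      · obtain ⟨i, rfl⟩ := degree_eq_one h
        rw [map_sub, h1, sub_self]
      · have h2 := hΦ G (G' - G) d (by omega) h0 ih n h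
        rw [add_sub_cancel, hG, hG', map_zero, zero_add] at h2
        exact hκ d hd _ h2.symm

theorem exists_of_isTriangular {Φ : MvPowerSeries σ A → MvPowerSeries σ A} {κ : ℕ → A}
    (hΦ : IsTriangular Φ κ)
    (h01 : ∀ B : MvPowerSeries σ A, constantCoeff B = 0 → ∀ e : σ →₀ ℕ, e.degree ≤ 1 → coeff e (Φ B) = 0)
    (hsolve : ∀ B : MvPowerSeries σ A, constantCoeff B = 0 → ∀ e : σ →₀ ℕ, 2 ≤ e.degree →
      ∃ x : A, coeff e (Φ B) + κ e.degree * x = 0)
    (α : σ → A) :
    ∃ G : MvPowerSeries σ A, constantCoeff G = 0 ∧ (∀ i, coeff (single i 1) G = α i) ∧ Φ G = 0 := by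
  classical
  let c : MvPowerSeries σ A → ℕ → (σ →₀ ℕ) → A := fun B d e =>
    if e.degree = d then
      if d = 1 then e.sum fun i m => m • α i
      else if h : ∃ x : A, coeff e (Φ B) + κ d * x = 0 then h.choose else 0
    else 0
  let corr : MvPowerSeries σ A → ℕ → MvPowerSeries σ A := fun B d => if d = 0 then 0 else c B d
  let Bs : ℕ → MvPowerSeries σ A := fun d => Nat.rec 0 (fun d B => B + corr B d) d
  have hsucc : ∀ d, Bs (d + 1) = Bs d + corr (Bs d) d := fun d => rfl
  have hsupp : ∀ d (e : σ →₀ ℕ), d ≤ e.degree → coeff e (Bs d) = 0 := by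
    intro d
    induction d with
    | zero => exact fun e _ => map_zero _
    | succ d ih =>
      intro e he
      rw [hsucc, map_add, ih e (by omega), zero_add]
      rcases Nat.eq_zero_or_pos d with rfl | hd
      · simp [corr]
      · show coeff e (if d = 0 then 0 else c (Bs d) d) = 0
        rw [if_neg hd.ne', coeff_apply]
        exact if_neg (by omega)
  have hcorr0 : ∀ B d (e : σ →₀ ℕ), e.degree ≠ d → coeff e (corr B d) = 0 := by
    intro B d e he
    rcases Nat.eq_zero_or_pos d with rfl | hd
    · simp [corr]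
    · show coeff e (if d = 0 then 0 else c B d) = 0
      rw [if_neg hd.ne', coeff_apply]
      exact if_neg he
  have hstab : ∀ d m (e : σ →₀ ℕ), e.degree < d → coeff e (Bs (d + m)) = coeff e (Bs d) := by
    intro d m
    induction m with
    | zero => exact fun e _ => rfl
    | succ m ih =>
      intro e he
      rw [← Nat.add_assoc, hsucc, map_add, hcorr0 _ _ _ (by omega), add_zero, ih e he]
  let G : MvPowerSeries σ A := fun e => coeff e (Bs (e.degree + 1))
  have hG : ∀ d, VanishBelow d (G - Bs d) := by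
    intro d e he
    rw [map_sub, sub_eq_zero]
    show coeff e (Bs (e.degree + 1)) = _
    obtain ⟨m, hm⟩ := Nat.exists_eq_add_of_le (Nat.succ_le_of_lt he)
    rw [hm, hstab (e.degree + 1) m e (Nat.lt_succ_self _)]
  have hG0 : constantCoeff G = 0 := by
    rw [← coeff_zero_eq_constantCoeff_apply]
    show coeff 0 (Bs ((0 : σ →₀ ℕ).degree + 1)) = 0
    rw [map_zero]
    simp [hsucc, corr, Bs]
  have hB0 : ∀ d, constantCoeff (Bs d) = 0 := by
    intro d
    rcases Nat.eq_zero_or_pos d with rfl | hd
    · exact map_zero _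
    · have := hG d 0 (by rw [map_zero]; exact hd)
      rw [map_sub, coeff_zero_eq_constantCoeff_apply, coeff_zero_eq_constantCoeff_apply, hG0] at this
      simpa using this
  refine ⟨G, hG0, fun i => ?_, MvPowerSeries.ext fun e => ?_⟩
  · show coeff (single i 1) (Bs ((single i 1).degree + 1)) = α i
    rw [degree_single, hsucc, map_add, hsupp 1 _ (by rw [degree_single]), zero_add]
    show coeff (single i 1) (if (1 : ℕ) = 0 then 0 else c (Bs 1) 1) = α i
    rw [if_neg one_ne_zero, coeff_apply]
    show (if (single i 1).degree = 1 then _ else 0) = α i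
    rw [if_pos (degree_single _ _), if_pos rfl, Finsupp.sum_single_index (h := fun i m => m • α i) (zero_nsmul _), one_nsmul]
  · rw [map_zero]
    rcases Nat.lt_or_ge e.degree 2 with h | h
    · exact h01 G hG0 e (by omega)
    · have h1 := hΦ (Bs e.degree) (G - Bs e.degree) e.degree (by omega) (hB0 _) (hG _) e rfl
      rw [add_sub_cancel, map_sub, hsupp _ e le_rfl, sub_zero] at h1
      rw [h1]
      show _ + κ _ * coeff e (Bs (e.degree + 1)) = 0
      rw [hsucc, map_add, hsupp _ e le_rfl, zero_add]
      show _ + κ _ * coeff e (if e.degree = 0 then 0 else c (Bs e.degree) e.degree) = 0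
      rw [if_neg (by omega), coeff_apply]
      show _ + κ _ * (if e.degree = e.degree then _ else 0) = 0
      rw [if_pos rfl, if_neg (by omega), dif_pos (hsolve _ (hB0 _) e h)]
      exact (hsolve _ (hB0 _) e h).choose_spec

/-- Coefficient of a variable in a composite of series without constant term. -/
theorem coeff_single_subst [Fintype σ] [DecidableEq σ] {H : σ → MvPowerSeries τ A}
    (hH : ∀ i, constantCoeff (H i) = 0) (G : MvPowerSeries σ A) (j : τ) :
    coeff (single j 1) (subst H G) = ∑ i, coeff (single i 1) G * coeff (single j 1) (H i) := by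
  classical
  rw [coeff_subst (hasSubst_of_constantCoeff_zero hH),
    finsum_eq_sum_of_support_subset (s := Finset.univ.image fun i => single i 1)]
  · rw [Finset.sum_image fun a _ b _ h => (Finsupp.single_left_inj one_ne_zero).1 h]
    refine Finset.sum_congr rfl fun i _ => ?_
    rw [prod_single_pow, pow_one, smul_eq_mul]
  · intro n hn
    by_contra hns
    apply hn
    show coeff n G • _ = 0
    rcases Nat.eq_zero_or_pos n.degree with h0 | hpos
    · rw [(degree_eq_zero_iff _).1 h0, Finsupp.prod_zero_index, coeff_one,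
        if_neg (fun h => one_ne_zero (Finsupp.single_eq_zero.1 h)), smul_zero]
    · obtain ⟨i, hi⟩ : ∃ i, n i ≠ 0 := by
        by_contra! hc
        rw [Finsupp.ext hc (g := 0)] at hpos
        simp at hpos
      have hle : single i 1 ≤ n := Finsupp.single_le_iff.2 (Nat.one_le_iff_ne_zero.2 hi)
      have hsplit := add_tsub_cancel_of_le hle
      obtain ⟨j', hj'⟩ : ∃ j', (n - single i 1 : σ →₀ ℕ) j' ≠ 0 := by
        by_contra! hc
        rw [Finsupp.ext hc (g := 0), add_zero] at hsplit
        apply hns
        simp only [Finset.coe_image, Finset.coe_univ, Set.image_univ, Set.mem_range]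
        exact ⟨i, hsplit⟩
      rw [← hsplit, Finsupp.prod_add_index' (fun _ => pow_zero _) (fun _ _ _ => pow_add _ _ _),
        prod_single_pow, pow_one]
      rw [coeff_mul_eq_zero (d := 1) ?_ ?_ (degree_single j 1).le, smul_zero]
      · intro m hm
        rw [(degree_eq_zero_iff _).1 (by omega : m.degree = 0), coeff_zero_eq_constantCoeff_apply, hH]
      · rw [map_finsuppProd]
        exact Finset.prod_eq_zero (Finsupp.mem_support_iff.2 hj') (by simp only [map_pow, hH, zero_pow hj'])

end Groth.Agent.LubinTateLib
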